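import Groth.Agent.FFLib.Geometric
import Mathlib.RingTheory.Unramified.Field
import Mathlib.FieldTheory.PurelyInseparable.Basic

/-!
# Subfields of purely inseparable index in a field with cyclic differentials
-/

noncomputable section

set_option autoImplicit false
set_option linter.style.haveILetI false
set_option maxHeartbeats 1000000

namespace Groth.Agent.FrobTwist

open IntermediateField
open scoped IntermediateField

universe u v

variable (k : Type u) (K : Type v) [Field k] [Field K] [Algebra k K] (p : ℕ) [Fact p.Prime]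

/-- The subfield `k(K^(p^r))`. -/
def twistField (r : ℕ) : IntermediateField k K := adjoin k (Set.range fun a : K => a ^ p ^ r)

variable {k K}

omit [Fact p.Prime] in
theorem pow_mem_twistField (r : ℕ) (a : K) : a ^ p ^ r ∈ twistField k K p r := subset_adjoin _ _ ⟨a, rfl⟩

variable [CharP K p]

theorem pow_mem_of_mem_adjoin {S : Set K} {F : IntermediateField k K} {j : ℕ}
    (h : ∀ s ∈ S, s ^ p ^ j ∈ F) {a : K} (ha : a ∈ adjoin k S) : a ^ p ^ j ∈ F := by
  haveI : ExpChar K p := .prime Fact.out
  induction ha using IntermediateField.adjoin_induction with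
  | mem a ha => exact h a ha
  | algebraMap c => rw [← map_pow]; exact F.algebraMap_mem _
  | add a b _ _ ha hb => rw [add_pow_expChar_pow]; exact add_mem ha hb
  | inv a _ ha => rw [inv_pow]; exact inv_mem ha
  | mul a b _ _ ha hb => rw [mul_pow]; exact mul_mem ha hb

theorem twistField_succ_le (r : ℕ) : twistField k K p (r + 1) ≤ twistField k K p r := by
  rw [twistField, adjoin_le_iff]
  rintro _ ⟨a, rfl⟩
  show a ^ p ^ (r + 1) ∈ _
  rw [pow_succ', pow_mul]
  exact pow_mem_twistField p r (a ^ p)

theorem pow_mem_twistField_add {j i : ℕ} {s : K} (hs : s ∈ twistField k K p j) :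
    s ^ p ^ i ∈ twistField k K p (j + i) := by
  refine pow_mem_of_mem_adjoin p ?_ hs
  rintro _ ⟨a, rfl⟩
  show (a ^ p ^ j) ^ p ^ i ∈ _
  rw [← pow_mul, ← pow_add]
  exact pow_mem_twistField p _ a

/-- A field with cyclic differentials is generated over `k(K^p)` by one element. -/
theorem exists_gen [Algebra.EssFiniteType k K] (h : Module.finrank K Ω[K⁄k] = 1) :
    ∃ x : K, twistField k K p 1 ⊔ k⟮x⟯ = ⊤ := by
  obtain ⟨x, hx⟩ : ∃ x, KaehlerDifferential.D k K x ≠ 0 := by
    by_contra! hno
    haveI : Subsingleton Ω[K⁄k] := by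
      rw [← Submodule.subsingleton_iff K, ← subsingleton_iff_bot_eq_top, ← KaehlerDifferential.span_range_derivation,
        eq_comm, Submodule.span_eq_bot]
      rintro _ ⟨a, rfl⟩
      exact hno a
    rw [Module.finrank_zero_of_subsingleton] at h
    exact zero_ne_one h
  refine ⟨x, eq_top_iff.2 fun a _ => ?_⟩
  set F := twistField k K p 1 ⊔ k⟮x⟯ with hF
  have hxF : x ∈ F := (le_sup_right : k⟮x⟯ ≤ F) (mem_adjoin_simple_self k x)
  haveI : Subsingleton Ω[K⁄F] := by
    refine subsingleton_of_forall_eq 0 fun z => ?_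
    obtain ⟨w, rfl⟩ := KaehlerDifferential.map_surjective k F K z
    obtain ⟨c, rfl⟩ := exists_smul_eq_of_finrank_eq_one h hx w
    rw [map_smul, KaehlerDifferential.map_D]
    have : KaehlerDifferential.D F K (algebraMap K K x) = 0 :=
      (KaehlerDifferential.D F K).map_algebraMap (⟨x, hxF⟩ : F)
    rw [this, smul_zero]
  haveI : Algebra.FormallyUnramified F K := ⟨inferInstance⟩
  haveI : Algebra.EssFiniteType F K := Algebra.EssFiniteType.of_comp k F K
  haveI : Algebra.IsSeparable F K := Algebra.FormallyUnramified.isSeparable F K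
  haveI : ExpChar K p := .prime Fact.out
  haveI : ExpChar F p := (algebraMap F K).expChar (algebraMap F K).injective p
  haveI : IsPurelyInseparable F K := by
    rw [isPurelyInseparable_iff_pow_mem F p]
    exact fun b => ⟨1, ⟨⟨b ^ p ^ 1, (le_sup_left : twistField k K p 1 ≤ F) (pow_mem_twistField p 1 b)⟩, rfl⟩⟩
  obtain ⟨b, rfl⟩ := IsPurelyInseparable.surjective_algebraMap_of_isSeparable F K a
  exact b.2

/-- An element outside a subfield generates a degree `p` purely inseparable extension. -/
theorem le_adjoin_of_notMem {F : IntermediateField k K} {y z : K} (hy : y ^ p ∈ F)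
    (hz : z ∈ F ⊔ k⟮y⟯) (hzF : z ∉ F) : y ∈ F ⊔ k⟮z⟯ := by
  have hp : p.Prime := Fact.out
  haveI : ExpChar K p := .prime hp
  have hle : ∀ w : K, (F⟮w⟯).restrictScalars k = F ⊔ k⟮w⟯ := fun w => by
    rw [restrictScalars_adjoin, adjoin_union, adjoin_self]
  have hyF : y ∉ F := fun h => hzF (by
    have : F ⊔ k⟮y⟯ = F := sup_eq_left.2 (adjoin_simple_le_iff.2 h)
    rwa [this] at hz)
  have hirr : Irreducible (Polynomial.X ^ p - Polynomial.C (⟨y ^ p, hy⟩ : F)) :=
    X_pow_sub_C_irreducible_of_prime hp fun b hb => hyF (by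
      have h : (b : K) ^ p = y ^ p := congrArg Subtype.val hb
      exact frobenius_inj K p h ▸ b.2)
  have hint : IsIntegral F y := ⟨Polynomial.X ^ p - Polynomial.C (⟨y ^ p, hy⟩ : F),
    Polynomial.monic_X_pow_sub_C _ hp.ne_zero, by rw [← Polynomial.aeval_def]; simp⟩
  have hdeg : Module.finrank F F⟮y⟯ = p := by
    rw [adjoin.finrank hint, ← minpoly.eq_of_irreducible_of_monic hirr (by simp)
      (Polynomial.monic_X_pow_sub_C _ hp.ne_zero), Polynomial.natDegree_X_pow_sub_C]
  haveI : FiniteDimensional F F⟮y⟯ := adjoin.finiteDimensional hint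
  have hzy : F⟮z⟯ ≤ F⟮y⟯ := adjoin_simple_le_iff.2 (show z ∈ (F⟮y⟯).restrictScalars k by rw [hle]; exact hz)
  have heq : F⟮z⟯ = F⟮y⟯ := by
    refine IntermediateField.eq_of_le_of_finrank_eq hzy ?_
    have hdvd : Module.finrank F F⟮z⟯ ∣ p := hdeg ▸ IntermediateField.finrank_dvd_of_le_right hzy
    rcases hp.eq_one_or_self_of_dvd _ hdvd with h1 | h1
    · rw [IntermediateField.finrank_adjoin_simple_eq_one_iff, mem_bot] at h1
      obtain ⟨c, hc⟩ := h1
      exact absurd (hc ▸ c.2) hzF
    · rw [h1, hdeg]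
  have h := mem_adjoin_simple_self F y
  rw [← heq] at h
  rw [← hle]
  exact h

/-- Subfields with purely inseparable index are the fields `k(K^(p^r))`. -/
theorem exists_eq_twistField {x : K} (hx : twistField k K p 1 ⊔ k⟮x⟯ = ⊤) (L : IntermediateField k K) :
    ∀ m j : ℕ, twistField k K p (j + m) ≤ L → L ≤ twistField k K p j → ∃ r, L = twistField k K p r
  | 0, j, h₁, h₂ => ⟨j, le_antisymm h₂ h₁⟩
  | m + 1, j, h₁, h₂ => by
    by_cases h : L ≤ twistField k K p (j + 1)
    · exact exists_eq_twistField hx L m (j + 1) (by rwa [show j + 1 + m = j + (m + 1) by omega]) h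
    refine ⟨j, le_antisymm h₂ ?_⟩
    obtain ⟨z, hzL, hz⟩ := SetLike.not_le_iff_exists.1 h
    have hgen : ∀ w : K, w ^ p ^ j ∈ twistField k K p (j + 1) ⊔ k⟮x ^ p ^ j⟯ := fun w => by
      have hw : w ∈ adjoin k ((twistField k K p 1 : Set K) ∪ {x}) := by
        rw [adjoin_union, adjoin_self, hx]; exact mem_top
      refine pow_mem_of_mem_adjoin p ?_ hw
      rintro s (hs | hs)
      · exact le_sup_left (a := twistField k K p (j + 1))
          (show s ^ p ^ j ∈ twistField k K p (j + 1) by rw [add_comm]; exact pow_mem_twistField_add p hs)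
      · rw [Set.mem_singleton_iff.1 hs]
        exact le_sup_right (a := twistField k K p (j + 1)) (mem_adjoin_simple_self k (x ^ p ^ j))
    have hy : (x ^ p ^ j) ^ p ∈ twistField k K p (j + 1) := by
      rw [← pow_mul, ← pow_succ]; exact pow_mem_twistField p _ x
    have hzy : z ∈ twistField k K p (j + 1) ⊔ k⟮x ^ p ^ j⟯ := by
      have hle : twistField k K p j ≤ twistField k K p (j + 1) ⊔ k⟮x ^ p ^ j⟯ :=
        adjoin_le_iff.2 (by rintro _ ⟨w, rfl⟩; exact hgen w)
      exact hle (h₂ hzL)
    have hxj : x ^ p ^ j ∈ L ⊔ twistField k K p (j + 1) := by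
      have h1 := le_adjoin_of_notMem p hy hzy hz
      have h2 : twistField k K p (j + 1) ⊔ k⟮z⟯ ≤ L ⊔ twistField k K p (j + 1) :=
        sup_le le_sup_right ((adjoin_simple_le_iff.2 hzL).trans le_sup_left)
      exact h2 h1
    have hstep : ∀ i, twistField k K p (j + i) ≤ L ⊔ twistField k K p (j + i + 1) := fun i => by
      rw [twistField, adjoin_le_iff]
      rintro _ ⟨a, rfl⟩
      show a ^ p ^ (j + i) ∈ L ⊔ twistField k K p (j + i + 1)
      rw [pow_add, pow_mul]
      have h1 : a ^ p ^ j ∈ adjoin k ((L : Set K) ∪ twistField k K p (j + 1)) := by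
        rw [adjoin_union, adjoin_self, adjoin_self]
        exact (sup_le le_sup_right (adjoin_simple_le_iff.2 hxj) :
          twistField k K p (j + 1) ⊔ k⟮x ^ p ^ j⟯ ≤ _) (hgen a)
      refine pow_mem_of_mem_adjoin p ?_ h1
      rintro s (hs | hs)
      · exact le_sup_left (a := L) (pow_mem hs _)
      · exact le_sup_right (a := L) (show s ^ p ^ i ∈ twistField k K p (j + i + 1) by
          rw [show j + i + 1 = j + 1 + i by omega]; exact pow_mem_twistField_add p hs)
    have hall : ∀ i, twistField k K p j ≤ L ⊔ twistField k K p (j + i) := by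
      intro i
      induction i with
      | zero => exact le_sup_right
      | succ i ih => exact ih.trans (sup_le le_sup_left (hstep i))
    exact (hall (m + 1)).trans (sup_le le_rfl h₁)

end Groth.Agent.FrobTwist
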