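import Groth.Agent.FrobTwist.Field
import Groth.Agent.FrobPullLib.Iter
import Groth.Agent.HyperP1.SeparableCurve
import Groth.Agent.SmoothCrit.Sch
import Groth.Agent.CurveLuroth.FF
import Groth.Agent.CurveCohLib.SmoothCurve
import Groth.Agent.CurveBC.Coh
import Groth.Agent.CurveBC.Geometry

/-!
# Curves with purely inseparable function field extension are Frobenius twists
-/

noncomputable section

set_option autoImplicit false
set_option maxHeartbeats 1600000
set_option linter.style.haveILetI false
set_option linter.unusedSectionVars false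
set_option backward.isDefEq.respectTransparency false
set_option backward.isDefEq.respectTransparency.types false

universe u

open CategoryTheory CategoryTheory.Limits AlgebraicGeometry TopologicalSpace
open scoped IntermediateField

namespace Groth.Agent.FrobTwist

open Groth.Agent

attribute [local instance] ZetaCurve.ffAlg

variable (k : Type u) [Field k]

/-- The differentials of the function field of a smooth curve. -/
theorem finrank_omega (X : Scheme.{u}) [X.Over (Spec (CommRingCat.of k))] [IsIntegral X]
    [Smooth (X ↘ Spec (CommRingCat.of k))] (hdX : topologicalKrullDim X = 1) :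
    Module.finrank X.functionField Ω[X.functionField⁄k] = 1 := by
  haveI : SmoothOfRelativeDimension 1 (X ↘ Spec (CommRingCat.of k)) :=
    SmoothCrit.smoothOfRelativeDimension_dim (k := k) (X ↘ Spec (CommRingCat.of k)) 1 hdX
  obtain ⟨W, hW, V, hV, hη, e, hstd⟩ := SmoothOfRelativeDimension.exists_isStandardSmoothOfRelativeDimension
    (n := 1) (f := X ↘ Spec (CommRingCat.of k)) (genericPoint X)
  haveI : Subsingleton (Spec (CommRingCat.of k)) := inferInstanceAs (Subsingleton (PrimeSpectrum k))
  obtain rfl : W = ⊤ := top_le_iff.1 fun x _ =>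
    Subsingleton.elim ((X ↘ Spec (CommRingCat.of k)) (genericPoint X)) x ▸ e hη
  let φ : k →+* Γ(X, V) :=
    ((X ↘ Spec (CommRingCat.of k)).appLE ⊤ V e).hom.comp (Scheme.ΓSpecIso (CommRingCat.of k)).inv.hom
  have hφ : φ.IsStandardSmoothOfRelativeDimension 1 := RingHom.isStandardSmoothOfRelativeDimension_respectsIso.2 _
    (Scheme.ΓSpecIso (CommRingCat.of k)).symm.commRingCatIsoToRingEquiv hstd
  letI : Algebra k Γ(X, V) := φ.toAlgebra
  haveI : Algebra.IsStandardSmoothOfRelativeDimension 1 k Γ(X, V) := hφ
  haveI : Algebra.IsStandardSmooth k Γ(X, V) := Algebra.IsStandardSmoothOfRelativeDimension.isStandardSmooth 1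
  haveI : Nonempty V := ⟨⟨_, hη⟩⟩
  haveI := functionField_isFractionRing_of_isAffineOpen X V hV
  haveI : IsScalarTower k Γ(X, V) X.functionField := IsScalarTower.of_algebraMap_eq fun c => by
    show X.presheaf.germ ⊤ _ trivial ((X ↘ Spec (CommRingCat.of k)).appTop ((Scheme.ΓSpecIso (CommRingCat.of k)).inv c)) =
      X.presheaf.germ V _ hη ((X ↘ Spec (CommRingCat.of k)).appLE ⊤ V e ((Scheme.ΓSpecIso (CommRingCat.of k)).inv c))
    simp only [Scheme.Hom.appLE, Scheme.Hom.appTop, CommRingCat.comp_apply, TopCat.Presheaf.germ_res_apply']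
    rfl
  rw [IsLocalization.finrank_eq (R := Γ(X, V)) X.functionField (nonZeroDivisors Γ(X, V)) le_rfl,
    IsLocalizedModule.finrank_eq (nonZeroDivisors Γ(X, V)) (KaehlerDifferential.map k k Γ(X, V) X.functionField) le_rfl,
    Module.finrank, Algebra.IsStandardSmoothOfRelativeDimension.rank_kaehlerDifferential (S := Γ(X, V)) 1]
  simp

theorem universallyInjective_iterateFrobenius (p : ℕ) [Fact p.Prime] [CharP k p] (r : ℕ) :
    UniversallyInjective (Spec.map (CommRingCat.ofHom (iterateFrobenius k p r))) := by
  refine ((tfae_universallyInjective _).out 0 1).2 fun L hL g₁ g₂ hg => ?_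
  obtain ⟨a, rfl⟩ := Spec.map_surjective g₁
  obtain ⟨b, rfl⟩ := Spec.map_surjective g₂
  have hg' : CommRingCat.ofHom (iterateFrobenius k p r) ≫ a = CommRingCat.ofHom (iterateFrobenius k p r) ≫ b :=
    Spec.map_injective (by rw [Spec.map_comp, Spec.map_comp]; exact hg)
  congr 1
  ext1
  letI := hL
  ext c
  haveI : CharP L p := charP_of_injective_ringHom a.hom.injective p
  haveI : ExpChar L p := .prime Fact.out
  refine iterateFrobenius_inj L p r ?_
  have h := congr($hg' c)
  simp only [CommRingCat.comp_apply, CommRingCat.hom_ofHom, iterateFrobenius_def] at h ⊢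
  rw [← map_pow, ← map_pow]
  exact h

variable (p : ℕ) [Fact p.Prime] [CharP k p] (X Y : Scheme.{u}) [X.Over (Spec (CommRingCat.of k))]
  [Y.Over (Spec (CommRingCat.of k))] [IsIntegral X] [IsIntegral Y]

/-- The function field map of a morphism preserving generic points is over the ground field. -/
theorem algebraMap_comp {Z W : Scheme.{u}} [Z.Over (Spec (CommRingCat.of k))] [W.Over (Spec (CommRingCat.of k))]
    [IsIntegral Z] [IsIntegral W] (g : Z ⟶ W) (hg : g ≫ (W ↘ Spec (CommRingCat.of k)) = Z ↘ Spec (CommRingCat.of k))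
    (e : g (genericPoint Z) = genericPoint W) :
    CommRingCat.ofHom (algebraMap k W.functionField) ≫
        (W.presheaf.stalkSpecializes (specializes_of_eq e) ≫ g.stalkMap (genericPoint Z)) =
      CommRingCat.ofHom (algebraMap k Z.functionField) := by
  apply Spec.map_injective
  simp only [Spec.map_comp, Category.assoc, ← HyperP1.fromSpecStalk_over,
    Scheme.SpecMap_stalkSpecializes_fromSpecStalk_assoc, Scheme.SpecMap_stalkMap_fromSpecStalk_assoc]
  rw [hg]

variable [IsProper (X ↘ Spec (CommRingCat.of k))] [IsProper (Y ↘ Spec (CommRingCat.of k))]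
  [Smooth (X ↘ Spec (CommRingCat.of k))]

/-- The twist of a smooth proper curve by a power of Frobenius. -/
theorem exists_iso (hdX : topologicalKrullDim X = 1) (hY : ∀ y : Y, ValuationRing (Y.presheaf.stalk y))
    (f : X ⟶ Y) (hf : f ≫ (Y ↘ Spec (CommRingCat.of k)) = X ↘ Spec (CommRingCat.of k))
    (e : f (genericPoint X) = genericPoint Y)
    (hpi : letI := ((Y.presheaf.stalkSpecializes (specializes_of_eq e) ≫ f.stalkMap (genericPoint X)).hom).toAlgebra
      IsPurelyInseparable Y.functionField X.functionField) :
    ∃ (r : ℕ) (i : Y ≅ pullback (X ↘ Spec (CommRingCat.of k)) (Spec.map (CommRingCat.ofHom (iterateFrobenius k p r)))),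
      i.hom ≫ pullback.snd (X ↘ Spec (CommRingCat.of k)) (Spec.map (CommRingCat.ofHom (iterateFrobenius k p r))) =
        Y ↘ Spec (CommRingCat.of k) := by
  classical
  haveI : FrobSch.IsCharP X p := FrobSch.IsCharP.of_hom (X ↘ Spec (CommRingCat.of k)) p
  haveI : CharP X.functionField p := charP_of_injective_ringHom (algebraMap k X.functionField).injective p
  haveI : ExpChar X.functionField p := .prime Fact.out
  let ψ : Y.functionField →ₐ[k] X.functionField :=
    { (Y.presheaf.stalkSpecializes (specializes_of_eq e) ≫ f.stalkMap (genericPoint X)).hom with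
      commutes' := fun c => congr($(algebraMap_comp k f hf e) c) }
  -- the subfield
  haveI : Algebra.EssFiniteType k X.functionField := ZetaCurve.essFiniteType k X hdX
  obtain ⟨x, hx⟩ := exists_gen (k := k) (K := X.functionField) p (finrank_omega k X hdX)
  obtain ⟨m, hm⟩ : ∃ m, ∀ a : X.functionField, a ^ p ^ m ∈ ψ.fieldRange := by
    obtain ⟨S, hS⟩ := IntermediateField.fg_top k X.functionField
    have hpw : ∀ a : X.functionField, ∃ n, a ^ p ^ n ∈ ψ.fieldRange := fun a => by
      letI := ((Y.presheaf.stalkSpecializes (specializes_of_eq e) ≫ f.stalkMap (genericPoint X)).hom).toAlgebra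
      haveI := hpi
      haveI : CharP Y.functionField p := charP_of_injective_ringHom (algebraMap k Y.functionField).injective p
      haveI : ExpChar Y.functionField p := .prime Fact.out
      obtain ⟨n, b, hb⟩ := IsPurelyInseparable.pow_mem (F := Y.functionField) p a
      exact ⟨n, b, hb⟩
    choose n hn using hpw
    refine ⟨S.sup n, fun a => pow_mem_of_mem_adjoin p (S := ↑S) (fun s hs => ?_) (by rw [hS]; trivial)⟩
    obtain ⟨d, hd⟩ := Nat.le.dest (Finset.le_sup (f := n) hs)
    rw [← hd, pow_add, pow_mul]
    exact pow_mem (hn s) _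
  obtain ⟨r, hr⟩ := exists_eq_twistField p hx ψ.fieldRange m 0
    (by rw [zero_add, twistField, IntermediateField.adjoin_le_iff]; rintro _ ⟨a, rfl⟩; exact hm a)
    (fun a _ => by simpa using pow_mem_twistField (k := k) p 0 a)
  refine ⟨r, ?_⟩
  -- the twist
  let σ := CommRingCat.ofHom (iterateFrobenius k p r)
  let X' := pullback (X ↘ Spec (CommRingCat.of k)) (Spec.map σ)
  letI : X'.Over (Spec (CommRingCat.of k)) := ⟨pullback.snd _ _⟩
  have hpb : IsPullback (pullback.fst (X ↘ Spec (CommRingCat.of k)) (Spec.map σ)) (X' ↘ Spec (CommRingCat.of k))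
      (X ↘ Spec (CommRingCat.of k)) (Spec.map σ) := IsPullback.of_hasPullback _ _
  haveI : IsProper (X' ↘ Spec (CommRingCat.of k)) := MorphismProperty.of_isPullback hpb inferInstance
  haveI : Smooth (X' ↘ Spec (CommRingCat.of k)) := MorphismProperty.of_isPullback hpb inferInstance
  let q : X' ⟶ X := pullback.fst _ _
  let F : X ⟶ X' := pullback.lift (FrobPullLib.frobN X p r) (X ↘ Spec (CommRingCat.of k)) (by
    rw [FrobPullLib.frobN_comp (p := p) r (X ↘ Spec (CommRingCat.of k)), FrobPullLib.frobN_Spec])
  have hFq : F ≫ q = FrobPullLib.frobN X p r := pullback.lift_fst _ _ _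
  have hFo : F ≫ (X' ↘ Spec (CommRingCat.of k)) = X ↘ Spec (CommRingCat.of k) := pullback.lift_snd _ _ _
  have hqF : ∀ z : X, q (F z) = z := fun z => by
    rw [← Scheme.Hom.comp_apply, hFq, FrobPullLib.frobN_apply]
  haveI : UniversallyInjective (Spec.map σ) := universallyInjective_iterateFrobenius k p r
  haveI : UniversallyInjective q := MorphismProperty.of_isPullback hpb.flip inferInstance
  have hFq' : ∀ z : X', F (q z) = z := fun z => q.injective (hqF (q z))
  have hFs : Function.Surjective F := fun z => ⟨q z, hFq' z⟩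
  have hhomeo : IsHomeomorph F.base :=
    isHomeomorph_iff_exists_inverse.2 ⟨F.continuous, q.base, hqF, hFq', q.continuous⟩
  haveI : ConnectedSpace X' := hFs.connectedSpace F.continuous
  haveI := QuasiCompact.compactSpace_of_compactSpace (X' ↘ Spec (CommRingCat.of k))
  haveI : IsIntegral X' := CurveCohLib.isIntegral_of_smooth_connected (X' ↘ Spec (CommRingCat.of k))
  have hdX' : topologicalKrullDim X' = 1 := by
    rw [← hhomeo.topologicalKrullDim_eq F.base]; exact hdX
  have hF : F (genericPoint X) = genericPoint X' := by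
    have hgp := (genericPoint_spec X).image F.continuous
    rw [Set.image_univ, hFs.range_eq, closure_univ] at hgp
    exact hgp.eq (genericPoint_spec X')
  have hq : q (genericPoint X') = genericPoint X := by rw [← hF, hqF]
  let ι : X.functionField ⟶ X'.functionField :=
    X.presheaf.stalkSpecializes (specializes_of_eq hq) ≫ q.stalkMap (genericPoint X')
  let ψ' : X'.functionField →ₐ[k] X.functionField :=
    { (X'.presheaf.stalkSpecializes (specializes_of_eq hF) ≫ F.stalkMap (genericPoint X)).hom with
      commutes' := fun c => congr($(algebraMap_comp k F hFo hF) c) }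
  have hψι : ∀ a : X.functionField, ψ' (ι a) = a ^ p ^ r := by
    have h : ι ≫ (X'.presheaf.stalkSpecializes (specializes_of_eq hF) ≫ F.stalkMap (genericPoint X)) =
        CommRingCat.ofHom (iterateFrobenius X.functionField p r) := by
      apply Spec.map_injective
      rw [← cancel_mono (X.fromSpecStalk (genericPoint X))]
      simp only [ι, Spec.map_comp, Category.assoc, Scheme.SpecMap_stalkSpecializes_fromSpecStalk,
        Scheme.SpecMap_stalkMap_fromSpecStalk, Scheme.SpecMap_stalkSpecializes_fromSpecStalk_assoc,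
        Scheme.SpecMap_stalkMap_fromSpecStalk_assoc]
      rw [hFq, ← FrobPullLib.frobN_comp p r (X.fromSpecStalk (genericPoint X))]
      exact congrArg (· ≫ _) (FrobPullLib.frobN_Spec p X.functionField r)
    exact fun a => congr($h a)
  have hrange : ψ'.fieldRange = twistField k X.functionField p r := by
    refine le_antisymm ?_ (IntermediateField.adjoin_le_iff.2 (by rintro _ ⟨a, rfl⟩; exact ⟨ι a, hψι a⟩))
    obtain ⟨U, hU, hηU, -⟩ := exists_isAffineOpen_mem_and_subset (X := X) (U := ⊤) (x := genericPoint X) trivial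
    obtain ⟨hV, hpo⟩ := EtPBC0.isPushout_appLE_of_opens hpb (isAffineOpen_top (Spec (CommRingCat.of k)))
      (isAffineOpen_top (Spec (CommRingCat.of k))) hU (UT := ⊤) (US := ⊤) (by simp) (by simp)
    set V := q ⁻¹ᵁ U ⊓ (X' ↘ Spec (CommRingCat.of k)) ⁻¹ᵁ ⊤ with hVdef
    have hηV : genericPoint X' ∈ V := ⟨show q (genericPoint X') ∈ U from hq ▸ hηU, trivial⟩
    haveI : Nonempty V := ⟨⟨_, hηV⟩⟩
    let T : Subfield X'.functionField := (twistField k X.functionField p r).toSubfield.comap ψ'.toRingHom
    have hgerm : ∀ a : Γ(X', V), X'.presheaf.germ V _ hηV a ∈ T := by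
      intro a
      have ha : a ∈ Subring.closure _ := HyperP1.closure_eq_top_of_isPushout hpo ▸ Subring.mem_top a
      refine (Subring.closure_le (t := T.toSubring.comap (X'.presheaf.germ V _ hηV).hom)).2 ?_ ha
      rintro _ (⟨s, rfl⟩ | ⟨c, rfl⟩)
      · show ψ' (X'.presheaf.germ V _ hηV (q.appLE U V inf_le_left s)) ∈ twistField k X.functionField p r
        have : X'.presheaf.germ V _ hηV (q.appLE U V inf_le_left s) = ι (X.presheaf.germ U _ hηU s) := by
          simp only [ι, CommRingCat.comp_apply, TopCat.Presheaf.germ_stalkSpecializes_apply,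
            Scheme.Hom.germ_stalkMap_apply, Scheme.Hom.appLE, TopCat.Presheaf.germ_res_apply']
        rw [this, hψι]
        exact pow_mem_twistField p r _
      · show ψ' (X'.presheaf.germ V _ hηV ((X' ↘ Spec (CommRingCat.of k)).appLE ⊤ V inf_le_right c)) ∈
          twistField k X.functionField p r
        have : X'.presheaf.germ V _ hηV ((X' ↘ Spec (CommRingCat.of k)).appLE ⊤ V inf_le_right c) =
            algebraMap k X'.functionField ((Scheme.ΓSpecIso (CommRingCat.of k)).hom c) := by
          show _ = X'.presheaf.germ ⊤ _ trivial ((X' ↘ Spec (CommRingCat.of k)).appTop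
            ((Scheme.ΓSpecIso (CommRingCat.of k)).inv ((Scheme.ΓSpecIso (CommRingCat.of k)).hom c)))
          rw [Iso.hom_inv_id_apply]
          simp only [Scheme.Hom.appLE, Scheme.Hom.appTop, CommRingCat.comp_apply,
            TopCat.Presheaf.germ_res_apply']
          rfl
        rw [this, AlgHom.commutes]
        exact IntermediateField.algebraMap_mem _ _
    haveI := functionField_isFractionRing_of_isAffineOpen X' V hV
    rintro _ ⟨z, rfl⟩
    obtain ⟨a, b, hb, rfl⟩ := IsFractionRing.div_surjective (A := Γ(X', V)) z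
    exact div_mem (hgerm a) (hgerm b : _ ∈ T)
  -- the isomorphism
  let θ : Y.functionField ≃ₐ[k] X'.functionField :=
    (AlgEquiv.ofInjectiveField ψ).trans ((IntermediateField.equivOfEq (hr.trans hrange.symm)).trans
      (AlgEquiv.ofInjectiveField ψ').symm)
  have hθ : CurveLuroth.ffC (Y ↘ Spec (CommRingCat.of k)) ≫ θ.toRingEquiv.toCommRingCatIso.hom =
      CurveLuroth.ffC (X' ↘ Spec (CommRingCat.of k)) := by
    apply Spec.map_injective
    rw [CurveLuroth.spec_ffC, HyperP1.fromSpecStalk_over, Spec.map_comp, CurveLuroth.spec_ffC,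
      HyperP1.fromSpecStalk_over, ← Spec.map_comp]
    congr 1
    ext c
    exact θ.commutes c
  obtain ⟨i, hi⟩ := CurveLuroth.exists_iso_of_functionField (Y ↘ Spec (CommRingCat.of k))
    (X' ↘ Spec (CommRingCat.of k)) hY (HyperP1.valuationRing_stalk k hdX') θ.toRingEquiv.toCommRingCatIso hθ
  exact ⟨i, hi⟩

/-- The invariants of a curve do not change under extension of the base field. -/
theorem invariants (k : Type u) [Field k] (K : Type u) [Field K] [Algebra k K] {X : Scheme.{u}}
    [X.Over (Spec (CommRingCat.of k))] {X' : Scheme.{u}} [X'.Over (Spec (CommRingCat.of K))] (g : X' ⟶ X)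
    (hpb : IsPullback g (X' ↘ Spec (CommRingCat.of K)) (X ↘ Spec (CommRingCat.of k))
      (Spec.map (CommRingCat.ofHom (algebraMap k K))))
    (hp : IsProper (X ↘ Spec (CommRingCat.of k))) (hs : Smooth (X ↘ Spec (CommRingCat.of k)))
    (h0 : Module.finrank k (Coh.HH X (Coh.structureModule X) 0) = 1) :
    Smooth (X' ↘ Spec (CommRingCat.of K)) ∧ Module.finrank K (Coh.HH X' (Coh.structureModule X') 0) = 1 ∧
      Curv2.genus K X' = Curv2.genus k X := by
  haveI := hp; haveI := hs
  haveI := quasiSeparatedSpace_of_quasiSeparated (X ↘ Spec (CommRingCat.of k))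
  haveI := QuasiCompact.compactSpace_of_compactSpace (X ↘ Spec (CommRingCat.of k))
  exact ⟨CurveBC.smooth k K g hpb, CurveBC.finrank_h0 k K g hpb h0, CurveBC.genus_eq k K g hpb⟩

end Groth.Agent.FrobTwist
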